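import Mathlib
import Groth.Prelude.Def_SymTen

/-! Points of the `d`-fold product of `Proj B` and the covering of the symmetric product. -/

set_option autoImplicit false
universe u

open scoped TensorProduct
open Polynomial (Monic)

namespace Groth.ZeroCycSym

variable {A B : Type u} [CommRing A] [CommRing B] [Algebra A B] (𝒜 : ℕ → Submodule A B) (d : ℕ)

/-- The algebra spanned by tensors whose factors have a common degree. -/
noncomputable abbrev diagAlg : Subalgebra A (⨂[A] _ : Fin d, B) :=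
  Algebra.adjoin A {t | ∃ (k : ℕ) (b : Fin d → B), (∀ i, b i ∈ 𝒜 k) ∧ t = PiTensorProduct.tprod A b}

theorem tprod_mem {k : ℕ} {b : Fin d → B} (hb : ∀ i, b i ∈ 𝒜 k) :
    PiTensorProduct.tprod A b ∈ diagAlg 𝒜 d :=
  Algebra.subset_adjoin ⟨k, b, hb, rfl⟩

theorem perm_mem (σ : Equiv.Perm (Fin d)) {t : ⨂[A] _ : Fin d, B} (ht : t ∈ diagAlg 𝒜 d) :
    SymTen.perm A B d σ t ∈ diagAlg 𝒜 d := by
  have h : (diagAlg 𝒜 d).map (SymTen.perm A B d σ) ≤ diagAlg 𝒜 d := by
    rw [diagAlg, AlgHom.map_adjoin, Algebra.adjoin_le_iff]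
    rintro _ ⟨_, ⟨k, b, hb, rfl⟩, rfl⟩
    exact Algebra.subset_adjoin ⟨k, fun i => b (σ.symm i), fun i => hb _, SymTen.perm_tprod A B d σ b⟩
  exact h ⟨t, ht, rfl⟩

variable {D : Subalgebra A (⨂[A] _ : Fin d, B)}

theorem isIntegral (hD : D = diagAlg 𝒜 d ⊓ SymTen.TS A B d) (hle : D ≤ diagAlg 𝒜 d) :
    (Subalgebra.inclusion hle).toRingHom.IsIntegral := by
  classical
  intro x
  rcases subsingleton_or_nontrivial (⨂[A] _ : Fin d, B) with hs | hs
  · obtain rfl : x = 0 := Subtype.ext (Subsingleton.elim _ _)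
    exact RingHom.isIntegralElem_zero _
  let y : ⨂[A] _ : Fin d, B := x.1
  let P : Polynomial (⨂[A] _ : Fin d, B) :=
    ∏ σ : Equiv.Perm (Fin d), (Polynomial.X - Polynomial.C (SymTen.perm A B d σ y))
  have hP : P.Monic := Polynomial.monic_prod_of_monic _ _ fun σ _ => Polynomial.monic_X_sub_C _
  have hcoeff : ∀ l, P.coeff l ∈ D := by
    intro l
    rw [hD]
    refine ⟨?_, fun τ => ?_⟩
    · have h : P = (∏ σ : Equiv.Perm (Fin d), (Polynomial.X -
          Polynomial.C (⟨_, perm_mem 𝒜 d σ x.2⟩ : diagAlg 𝒜 d))).map (diagAlg 𝒜 d).val.toRingHom := by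
        simp [P, Polynomial.map_prod, y]
      rw [h, Polynomial.coeff_map]
      exact SetLike.coe_mem _
    · have hmap : P.map (SymTen.perm A B d τ).toRingHom = P := by
        simp only [P, Polynomial.map_prod, Polynomial.map_sub, Polynomial.map_X, Polynomial.map_C]
        refine Fintype.prod_equiv (Equiv.mulLeft τ) _ _ fun σ => ?_
        congr 2
        show SymTen.perm A B d τ (SymTen.perm A B d σ y) = SymTen.perm A B d (τ * σ) y
        induction y using PiTensorProduct.induction_on with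
        | smul_tprod r g => simp [-SymTen.perm_apply, Equiv.Perm.mul_def]
        | add y z hy hz => simp only [map_add, hy, hz]
      conv_rhs => rw [← hmap, Polynomial.coeff_map]
      exact (SymTen.perm_apply A B d τ _).symm
  obtain ⟨q, hq, -, hqm⟩ := Polynomial.lifts_and_degree_eq_and_monic
    (f := D.val.toRingHom) (p := P) ((Polynomial.lifts_iff_coeff_lifts P).2 fun l => ⟨⟨_, hcoeff l⟩, rfl⟩) hP
  refine ⟨q, hqm, Subtype.val_injective ?_⟩
  show (diagAlg 𝒜 d).val.toRingHom (Polynomial.eval₂ _ x q) = 0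
  rw [Polynomial.hom_eval₂]
  have : Polynomial.eval₂ D.val.toRingHom y q = 0 := by
    rw [Polynomial.eval₂_eq_eval_map, hq, Polynomial.eval_prod]
    refine Finset.prod_eq_zero (Finset.mem_univ 1) ?_
    simp [SymTen.perm_apply, Equiv.Perm.one_def]
  exact this

/-- A function outside the radical is nonzero at some field valued point killing the ideal. -/
theorem exists_point (hD : D = diagAlg 𝒜 d ⊓ SymTen.TS A B d) (I : Ideal D) (t : D)
    (ht : ∀ m : ℕ, 0 < m → t ^ m ∉ I) :
    ∃ (κ : Type u) (_ : Field κ) (ev : diagAlg 𝒜 d →+* κ),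
      (∀ (x : D) (hx : (x : ⨂[A] _ : Fin d, B) ∈ diagAlg 𝒜 d), x ∈ I → ev ⟨x, hx⟩ = 0) ∧
      ∀ (hx : (t : ⨂[A] _ : Fin d, B) ∈ diagAlg 𝒜 d), ev ⟨t, hx⟩ ≠ 0 := by
  have hle : D ≤ diagAlg 𝒜 d := hD.trans_le inf_le_left
  have htr : t ∉ I.radical := fun ⟨m, hm⟩ =>
    ht (m + 1) m.succ_pos (by rw [pow_succ]; exact I.mul_mem_right _ hm)
  rw [Ideal.radical_eq_sInf, Submodule.mem_sInf] at htr
  push Not at htr
  obtain ⟨(P : Ideal D), ⟨hIP, hPprime⟩, htP⟩ := htr
  haveI : Ideal.IsPrime P := hPprime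
  letI : Algebra D (diagAlg 𝒜 d) := (Subalgebra.inclusion hle).toRingHom.toAlgebra
  haveI : Algebra.IsIntegral D (diagAlg 𝒜 d) := ⟨isIntegral 𝒜 d hD hle⟩
  obtain ⟨Q, -, hQ, hQP⟩ := Ideal.exists_ideal_over_prime_of_isIntegral P (⊥ : Ideal (diagAlg 𝒜 d))
    (fun z hz => by
      have h0 : Subalgebra.inclusion hle z = 0 := hz
      rw [Subalgebra.inclusion_injective hle (h0.trans (map_zero _).symm)]
      exact P.zero_mem)
  haveI := hQ
  refine ⟨FractionRing (diagAlg 𝒜 d ⧸ Q), inferInstance,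
    (algebraMap (diagAlg 𝒜 d ⧸ Q) _).comp (Ideal.Quotient.mk Q), fun x hx hxI => ?_, fun hx h => ?_⟩
  · have : x ∈ Q.comap (algebraMap D (diagAlg 𝒜 d)) := hQP ▸ hIP hxI
    show algebraMap _ _ (Ideal.Quotient.mk Q ⟨x, hx⟩) = 0
    rw [Ideal.Quotient.eq_zero_iff_mem.2 (show (⟨x, hx⟩ : diagAlg 𝒜 d) ∈ Q from this), map_zero]
  · have h' : (⟨t, hx⟩ : diagAlg 𝒜 d) ∈ Q :=
      Ideal.Quotient.eq_zero_iff_mem.1 ((map_eq_zero_iff _ (IsFractionRing.injective _ _)).1 h)
    exact htP (hQP ▸ (h' : t ∈ Q.comap (algebraMap D (diagAlg 𝒜 d))))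

variable {κ : Type u} [Field κ] (ev : diagAlg 𝒜 d →+* κ)

open Classical in
/-- Value of a tuple at a point. -/
noncomputable def val (b : Fin d → B) : κ :=
  if h : PiTensorProduct.tprod A b ∈ diagAlg 𝒜 d then ev ⟨_, h⟩ else 0

theorem val_eq {b : Fin d → B} (h : PiTensorProduct.tprod A b ∈ diagAlg 𝒜 d) : val 𝒜 d ev b = ev ⟨_, h⟩ :=
  dif_pos h

theorem val_update_add {n : ℕ} {b : Fin d → B} (hb : ∀ i, b i ∈ 𝒜 n) (i : Fin d) {x y : B}
    (hx : x ∈ 𝒜 n) (hy : y ∈ 𝒜 n) :
    val 𝒜 d ev (Function.update b i (x + y)) =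
      val 𝒜 d ev (Function.update b i x) + val 𝒜 d ev (Function.update b i y) := by
  have hm : ∀ z ∈ 𝒜 n, PiTensorProduct.tprod A (Function.update b i z) ∈ diagAlg 𝒜 d := fun z hz =>
    tprod_mem 𝒜 d (k := n) fun j => by
      by_cases h : j = i
      · subst h; simpa using hz
      · simpa [h] using hb j
  rw [val_eq _ _ _ (hm _ (add_mem hx hy)), val_eq _ _ _ (hm _ hx), val_eq _ _ _ (hm _ hy), ← map_add]
  exact congrArg ev (Subtype.ext (MultilinearMap.map_update_add _ b i x y))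

theorem val_update_smul {n : ℕ} {b : Fin d → B} (hb : ∀ i, b i ∈ 𝒜 n) (i : Fin d) (a : A) {x : B}
    (hx : x ∈ 𝒜 n) :
    val 𝒜 d ev (Function.update b i (a • x)) = ev (algebraMap A _ a) * val 𝒜 d ev (Function.update b i x) := by
  have hm : ∀ z ∈ 𝒜 n, PiTensorProduct.tprod A (Function.update b i z) ∈ diagAlg 𝒜 d := fun z hz =>
    tprod_mem 𝒜 d (k := n) fun j => by
      by_cases h : j = i
      · subst h; simpa using hz
      · simpa [h] using hb j
  rw [val_eq _ _ _ (hm _ (Submodule.smul_mem _ a hx)), val_eq _ _ _ (hm _ hx), ← map_mul]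
  refine congrArg ev (Subtype.ext ?_)
  show PiTensorProduct.tprod A (Function.update b i (a • x)) =
    algebraMap A _ a * PiTensorProduct.tprod A (Function.update b i x)
  rw [MultilinearMap.map_update_smul, Algebra.smul_def]

theorem exists_val_ne_zero {k : ℕ} {t : ⨂[A] _ : Fin d, B} (htC : t ∈ diagAlg 𝒜 d)
    (htk : t ∈ Submodule.span A {s | ∃ b : Fin d → B, (∀ i, b i ∈ 𝒜 k) ∧ s = PiTensorProduct.tprod A b})
    (ht : ev ⟨t, htC⟩ ≠ 0) :
    ∃ u : Fin d → B, (∀ i, u i ∈ 𝒜 k) ∧ val 𝒜 d ev u ≠ 0 := by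
  by_contra! h
  refine ht ?_
  clear ht
  revert htC
  induction htk using Submodule.span_induction with
  | mem x hx =>
    obtain ⟨b, hb, rfl⟩ := hx
    intro h'
    rw [← val_eq _ _ _ h']
    exact h b hb
  | zero => intro h'; exact map_zero ev
  | add x y hx hy ihx ihy =>
    intro h'
    have hsub : Submodule.span A {s | ∃ b : Fin d → B, (∀ i, b i ∈ 𝒜 k) ∧ s = PiTensorProduct.tprod A b} ≤
        Subalgebra.toSubmodule (diagAlg 𝒜 d) := Submodule.span_le.2 fun s ⟨b, hb, e⟩ => e ▸ tprod_mem 𝒜 d hb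
    have hsum : (⟨x + y, h'⟩ : diagAlg 𝒜 d) = ⟨x, hsub hx⟩ + ⟨y, hsub hy⟩ := rfl
    rw [hsum, map_add, ihx, ihy, add_zero]
  | smul a x hx ihx =>
    intro h'
    have hsub : Submodule.span A {s | ∃ b : Fin d → B, (∀ i, b i ∈ 𝒜 k) ∧ s = PiTensorProduct.tprod A b} ≤
        Subalgebra.toSubmodule (diagAlg 𝒜 d) := Submodule.span_le.2 fun s ⟨b, hb, e⟩ => e ▸ tprod_mem 𝒜 d hb
    have hsum : (⟨a • x, h'⟩ : diagAlg 𝒜 d) = algebraMap A _ a * ⟨x, hsub hx⟩ :=
      Subtype.ext (Algebra.smul_def a x)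
    rw [hsum, map_mul, ihx, mul_zero]

variable [GradedAlgebra 𝒜]

theorem val_mul {n m : ℕ} {b c : Fin d → B} (hb : ∀ i, b i ∈ 𝒜 n) (hc : ∀ i, c i ∈ 𝒜 m) :
    val 𝒜 d ev (b * c) = val 𝒜 d ev b * val 𝒜 d ev c := by
  rw [val_eq _ _ _ (tprod_mem 𝒜 d hb), val_eq _ _ _ (tprod_mem 𝒜 d hc),
    val_eq _ _ _ (tprod_mem 𝒜 d (k := n + m) (b := b * c) fun i => SetLike.mul_mem_graded (hb i) (hc i)),
    ← map_mul]
  exact congrArg ev (Subtype.ext (PiTensorProduct.tprod_mul_tprod b c).symm)

theorem val_one : val 𝒜 d ev 1 = 1 := by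
  rw [val_eq _ _ _ (tprod_mem 𝒜 d (k := 0) (b := 1) fun _ => SetLike.one_mem_graded 𝒜)]
  exact (congrArg ev (Subtype.ext (PiTensorProduct.one_def (R := A) (A := fun _ : Fin d => B)).symm)).trans
    (map_one ev)

theorem val_pow {n : ℕ} {b : Fin d → B} (hb : ∀ i, b i ∈ 𝒜 n) (m : ℕ) :
    val 𝒜 d ev (b ^ m) = val 𝒜 d ev b ^ m := by
  induction m with
  | zero => simpa using val_one 𝒜 d ev
  | succ m ih =>
    rw [pow_succ, pow_succ, val_mul 𝒜 d ev (n := m • n) (m := n) (b := b ^ m) (fun i => SetLike.pow_mem_graded m (hb i)) hb, ih]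

theorem val_prod {ι : Type*} (s : Finset ι) (n : ι → ℕ) (b : ι → Fin d → B)
    (hb : ∀ l ∈ s, ∀ i, b l i ∈ 𝒜 (n l)) :
    val 𝒜 d ev (∏ l ∈ s, b l) = ∏ l ∈ s, val 𝒜 d ev (b l) := by
  classical
  induction s using Finset.induction_on with
  | empty => simpa using val_one 𝒜 d ev
  | insert a s has ih =>
    rw [Finset.prod_insert has, Finset.prod_insert has,
      val_mul 𝒜 d ev (m := ∑ l ∈ s, n l) (hb a (Finset.mem_insert_self _ _)) (fun i => ?_),
      ih fun l hl => hb l (Finset.mem_insert_of_mem hl)]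
    rw [Finset.prod_apply]
    exact SetLike.prod_mem_graded _ _ _ fun l hl => hb l (Finset.mem_insert_of_mem hl) i

/-- The value at a diagonal tensor through the values at the slots. -/
theorem val_const {n m : ℕ} {v : Fin d → B} (hv : ∀ i, v i ∈ 𝒜 n) {b : B} (hb : b ∈ 𝒜 m)
    (hnm : n = m) :
    (∏ i, val 𝒜 d ev (Function.update v i b)) =
      val 𝒜 d ev (fun _ => b) * val 𝒜 d ev v ^ (d - 1) := by
  subst hnm
  have hu : ∀ i j, Function.update v i b j ∈ 𝒜 n := fun i j => by
    by_cases h : j = i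
    · subst h; simpa using hb
    · simpa [h] using hv j
  rw [← val_prod 𝒜 d ev Finset.univ (fun _ => n) _ (fun i _ => hu i), ← val_pow 𝒜 d ev hv,
    ← val_mul 𝒜 d ev (b := fun _ => b) (c := v ^ (d - 1)) (fun _ => hb) (fun i => SetLike.pow_mem_graded _ (hv i))]
  congr 1
  funext j
  rw [Finset.prod_apply, Pi.mul_apply, Pi.pow_apply, ← Finset.mul_prod_erase _ _ (Finset.mem_univ j),
    Function.update_self, Finset.prod_congr rfl (fun i hi => by rw [Function.update_of_ne (Finset.ne_of_mem_erase hi).symm]),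
    Finset.prod_const, Finset.card_erase_of_mem (Finset.mem_univ j), Finset.card_univ, Fintype.card_fin]

/-- Graded prime avoidance: some diagonal tensor is nonzero at the point. -/
theorem exists_const_val_ne_zero {n₀ : ℕ} (hn₀ : 0 < n₀) {u : Fin d → B} (hu : ∀ i, u i ∈ 𝒜 n₀)
    (hne : val 𝒜 d ev u ≠ 0) :
    ∃ (n : ℕ) (f : B), 0 < n ∧ f ∈ 𝒜 n ∧ val 𝒜 d ev (fun _ => f) ≠ 0 := by
  classical
  let slot : ℕ → B → Fin d → Fin d → B := fun n b i => Function.update (u ^ n) i b
  have hslot : ∀ n b i, b ∈ 𝒜 (n * n₀) → ∀ j, slot n b i j ∈ 𝒜 (n * n₀) := by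
    intro n b i hb j
    by_cases h : j = i
    · subst h; simpa [slot] using hb
    · simpa [slot, h] using SetLike.pow_mem_graded n (hu j)
  have hmul : ∀ n m b c i, b ∈ 𝒜 (n * n₀) → c ∈ 𝒜 (m * n₀) →
      val 𝒜 d ev (slot (n + m) (b * c) i) = val 𝒜 d ev (slot n b i) * val 𝒜 d ev (slot m c i) := by
    intro n m b c i hb hc
    rw [← val_mul 𝒜 d ev (hslot n b i hb) (hslot m c i hc)]
    congr 1
    funext j
    by_cases h : j = i
    · subst h; simp [slot]
    · simp [slot, h, pow_add]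
  have hpow : ∀ n b i, b ∈ 𝒜 (n * n₀) → ∀ e,
      val 𝒜 d ev (slot (e * n) (b ^ e) i) = val 𝒜 d ev (slot n b i) ^ e ∧ b ^ e ∈ 𝒜 (e * n * n₀) := by
    intro n b i hb e
    induction e with
    | zero =>
      refine ⟨?_, by simpa using SetLike.one_mem_graded 𝒜⟩
      rw [pow_zero, pow_zero, zero_mul]
      convert val_one 𝒜 d ev using 2
      funext j
      by_cases h : j = i
      · subst h; simp [slot]
      · simp [slot, h]
    | succ e ih =>
      refine ⟨?_, by rw [add_mul, one_mul, add_mul, pow_succ]; exact SetLike.mul_mem_graded ih.2 hb⟩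
      rw [add_mul, one_mul, pow_succ, pow_succ, hmul _ _ _ _ _ ih.2 hb, ih.1]
  have hprod : ∀ (s : Finset (Fin d)) (n : Fin d → ℕ) (b : Fin d → B) (i : Fin d),
      (∀ l ∈ s, b l ∈ 𝒜 (n l * n₀)) →
      val 𝒜 d ev (slot (∑ l ∈ s, n l) (∏ l ∈ s, b l) i) = ∏ l ∈ s, val 𝒜 d ev (slot (n l) (b l) i) ∧
        (∏ l ∈ s, b l) ∈ 𝒜 ((∑ l ∈ s, n l) * n₀) := by
    intro s n b i hb
    induction s using Finset.induction_on with
    | empty =>
      refine ⟨?_, by simpa using SetLike.one_mem_graded 𝒜⟩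
      simp only [Finset.sum_empty, Finset.prod_empty]
      convert val_one 𝒜 d ev using 2
      funext j
      by_cases h : j = i
      · subst h; simp [slot]
      · simp [slot, h]
    | insert a s has ih =>
      obtain ⟨h1, h2⟩ := ih fun l hl => hb l (Finset.mem_insert_of_mem hl)
      have ha := hb a (Finset.mem_insert_self a s)
      rw [Finset.sum_insert has, Finset.prod_insert has, Finset.prod_insert has, hmul _ _ _ _ _ ha h2, h1, add_mul]
      exact ⟨rfl, SetLike.mul_mem_graded ha h2⟩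
  have key : ∀ s : Finset (Fin d), ∃ (n : ℕ) (b : B), 0 < n ∧ b ∈ 𝒜 (n * n₀) ∧
      ∀ i ∈ s, val 𝒜 d ev (slot n b i) ≠ 0 := by
    intro s
    induction s using Finset.strongInduction with
    | H s ih =>
      rcases s.eq_empty_or_nonempty with rfl | ⟨i₀, hi₀⟩
      · exact ⟨1, 0, one_pos, zero_mem _, by simp⟩
      rcases (s.erase i₀).eq_empty_or_nonempty with he | ⟨i₁, hi₁⟩
      · refine ⟨1, u i₀, one_pos, by simpa using hu i₀, fun i hi => ?_⟩
        obtain rfl : i = i₀ := by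
          by_contra h
          exact (Finset.eq_empty_iff_forall_notMem.1 he i) (Finset.mem_erase.2 ⟨h, hi⟩)
        simpa [slot] using hne
      choose! n b hn hb hgood using fun i (hi : i ∈ s) => ih _ (Finset.erase_ssubset hi)
      by_cases hex : ∃ i ∈ s, val 𝒜 d ev (slot (n i) (b i) i) ≠ 0
      · obtain ⟨i, hi, hne'⟩ := hex
        refine ⟨n i, b i, hn i hi, hb i hi, fun j hj => ?_⟩
        by_cases h : j = i
        · exact h ▸ hne'
        · exact hgood i hi j (Finset.mem_erase.2 ⟨h, hj⟩)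
      push Not at hex
      have hb' : ∀ l ∈ s.erase i₀, b l ∈ 𝒜 (n l * n₀) := fun l hl => hb l (Finset.mem_of_mem_erase hl)
      set N := ∑ l ∈ s.erase i₀, n l with hN
      have hNpos : 0 < N := lt_of_lt_of_le (hn i₁ (Finset.mem_of_mem_erase hi₁))
        (Finset.single_le_sum (fun l _ => (n l).zero_le) hi₁)
      have hg := fun i => hprod (s.erase i₀) n b i hb'
      have hf := fun i => hpow (n i₀) (b i₀) i (hb i₀ hi₀) N
      have hgg := fun i => hpow N _ i (hg i₀).2 (n i₀)
      have hmem : (∏ l ∈ s.erase i₀, b l) ^ n i₀ ∈ 𝒜 (N * n i₀ * n₀) := by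
        rw [mul_comm N]; exact (hgg i₀).2
      refine ⟨N * n i₀, b i₀ ^ N + (∏ l ∈ s.erase i₀, b l) ^ n i₀, Nat.mul_pos hNpos (hn i₀ hi₀),
        add_mem (hf i₀).2 hmem, fun i hi => ?_⟩
      have hadd := val_update_add 𝒜 d ev (n := N * n i₀ * n₀) (b := u ^ (N * n i₀))
        (fun j => SetLike.pow_mem_graded _ (hu j)) i (hf i₀).2 hmem
      show val 𝒜 d ev (Function.update _ _ _) ≠ 0
      rw [hadd, show val 𝒜 d ev (Function.update (u ^ (N * n i₀)) i (b i₀ ^ N)) = _ from (hf i).1,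
        show val 𝒜 d ev (Function.update (u ^ (N * n i₀)) i ((∏ l ∈ s.erase i₀, b l) ^ n i₀)) =
          val 𝒜 d ev (slot (n i₀ * N) ((∏ l ∈ s.erase i₀, b l) ^ n i₀) i) by rw [mul_comm N],
        (hgg i).1, (hg i).1]
      by_cases h : i = i₀
      · subst h
        rw [hex i hi, zero_pow hNpos.ne', zero_add]
        exact pow_ne_zero _ (Finset.prod_ne_zero_iff.2 fun l hl =>
          hgood l (Finset.mem_of_mem_erase hl) i (Finset.mem_erase.2 ⟨(Finset.ne_of_mem_erase hl).symm, hi⟩))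
      · rw [Finset.prod_eq_zero (Finset.mem_erase.2 ⟨h, hi⟩) (hex i hi), zero_pow (hn i₀ hi₀).ne', add_zero]
        exact pow_ne_zero _ (hgood i₀ hi₀ i (Finset.mem_erase.2 ⟨h, hi⟩))
  obtain ⟨n, b, hn, hb, hgood⟩ := key Finset.univ
  refine ⟨n * n₀, b, Nat.mul_pos hn hn₀, hb, ?_⟩
  have := Finset.prod_ne_zero_iff.2 fun i (_ : i ∈ Finset.univ) => hgood i (Finset.mem_univ i)
  rw [val_const 𝒜 d ev (v := u ^ n) (n := n * n₀) (m := n * n₀)
    (fun j => by simpa using SetLike.pow_mem_graded n (hu j)) hb rfl] at this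
  exact left_ne_zero_of_mul this

theorem exists_symm_ne_zero (hD : D = diagAlg 𝒜 d ⊓ SymTen.TS A B d) {n : ℕ} {u : Fin d → B}
    (hu : ∀ i, u i ∈ 𝒜 n) (hne : val 𝒜 d ev u ≠ 0) :
    ∃ (s : D) (hs : (s : ⨂[A] _ : Fin d, B) ∈ diagAlg 𝒜 d),
      (s : ⨂[A] _ : Fin d, B) ∈ Submodule.span A {s | ∃ b : Fin d → B, (∀ i, b i ∈ 𝒜 n) ∧ s = PiTensorProduct.tprod A b} ∧
      ev ⟨s, hs⟩ ≠ 0 := by
  classical
  let cnt : (Fin d → Fin d) → (Fin d →₀ ℕ) := fun φ => ∑ i, Finsupp.single (φ i) 1
  let S : (Fin d →₀ ℕ) → ⨂[A] _ : Fin d, B := fun m =>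
    ∑ φ ∈ Finset.univ.filter (fun φ => cnt φ = m), PiTensorProduct.tprod A (fun i => u (φ i))
  have hSC : ∀ m, S m ∈ diagAlg 𝒜 d := fun m => sum_mem fun φ _ => tprod_mem 𝒜 d fun i => hu (φ i)
  have hSD : ∀ m, S m ∈ D := fun m => by
    rw [hD]
    refine ⟨hSC m, fun σ => ?_⟩
    simp only [S, map_sum, PiTensorProduct.reindex_tprod]
    refine Finset.sum_bij' (fun φ _ => φ ∘ σ.symm) (fun φ _ => φ ∘ σ) ?_ ?_ ?_ ?_ ?_
    · intro φ hφ
      simp only [Finset.mem_filter, Finset.mem_univ, true_and] at hφ ⊢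
      rw [← hφ]
      exact Fintype.sum_equiv σ.symm _ _ fun i => rfl
    · intro φ hφ
      simp only [Finset.mem_filter, Finset.mem_univ, true_and] at hφ ⊢
      rw [← hφ]
      exact Fintype.sum_equiv σ _ _ fun i => rfl
    · intro φ _; funext i; simp
    · intro φ _; funext i; simp
    · intro φ _; rfl
  by_contra! hall
  have hS0 : ∀ m, ev ⟨S m, hSC m⟩ = 0 := fun m =>
    hall ⟨S m, hSD m⟩ (hSC m) (sum_mem fun φ _ => Submodule.subset_span ⟨_, fun i => hu (φ i), rfl⟩)
  let c : Fin d → Fin d → κ := fun i l => val 𝒜 d ev (Function.update u i (u l))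
  let F : MvPolynomial (Fin d) κ := ∏ i, ∑ l, MvPolynomial.C (c i l) * MvPolynomial.X l
  have hF : F ≠ 0 := Finset.prod_ne_zero_iff.2 fun i _ h => by
    have := congrArg (MvPolynomial.coeff (Finsupp.single i 1)) h
    simp [MvPolynomial.coeff_sum, MvPolynomial.coeff_X', c, Finsupp.single_eq_single_iff] at this
    exact hne this
  refine hF ?_
  have hc : ∀ φ : Fin d → Fin d, ∏ i, c i (φ i) =
      val 𝒜 d ev (fun i => u (φ i)) * val 𝒜 d ev u ^ (d - 1) := by
    intro φ
    have hm : ∀ i j, Function.update u i (u (φ i)) j ∈ 𝒜 n := fun i j => by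
      by_cases h : j = i
      · subst h; simpa using hu (φ j)
      · simpa [h] using hu j
    rw [← val_prod 𝒜 d ev Finset.univ (fun _ => n) _ (fun i _ => hm i), ← val_pow 𝒜 d ev hu,
      ← val_mul 𝒜 d ev (b := fun i => u (φ i)) (c := u ^ (d - 1)) (fun i => hu _) (fun i => SetLike.pow_mem_graded _ (hu i))]
    congr 1
    funext j
    rw [Finset.prod_apply, Pi.mul_apply, Pi.pow_apply, ← Finset.mul_prod_erase _ _ (Finset.mem_univ j),
      Function.update_self, Finset.prod_congr rfl (fun i hi => by rw [Function.update_of_ne (Finset.ne_of_mem_erase hi).symm]),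
      Finset.prod_const, Finset.card_erase_of_mem (Finset.mem_univ j), Finset.card_univ, Fintype.card_fin]
  have hX : ∀ φ : Fin d → Fin d, ∏ i, (MvPolynomial.X (φ i) : MvPolynomial (Fin d) κ) = MvPolynomial.monomial (cnt φ) 1 :=
    fun φ => (MvPolynomial.monomial_sum_one _ _).symm
  simp only [F, Fintype.prod_sum, Finset.prod_mul_distrib, ← map_prod, hc, hX]
  rw [← Finset.sum_fiberwise_of_maps_to (g := cnt) (t := Finset.univ.image cnt) (fun φ _ => Finset.mem_image_of_mem _ (Finset.mem_univ φ))]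
  refine Finset.sum_eq_zero fun m _ => ?_
  rw [Finset.sum_congr rfl (fun φ hφ => by rw [(Finset.mem_filter.1 hφ).2]), ← Finset.sum_mul, ← map_sum,
    ← Finset.sum_mul]
  have hsum : ∑ φ ∈ Finset.univ.filter (fun φ => cnt φ = m), val 𝒜 d ev (fun i => u (φ i)) = 0 := by
    rw [Finset.sum_congr rfl (fun φ _ => val_eq 𝒜 d ev (tprod_mem 𝒜 d fun i => hu (φ i))), ← map_sum]
    refine Eq.trans (congrArg ev (Subtype.ext ?_)) (hS0 m)
    simp [S]
  rw [hsum, zero_mul, map_zero, zero_mul]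

theorem mem_powers_of_graded (hgen : Algebra.adjoin A (𝒜 1 : Set B) = ⊤) (n : ℕ) :
    𝒜 n ≤ (𝒜 1) ^ n := by
  classical
  have hle : ∀ j, (𝒜 1) ^ j ≤ 𝒜 j := by
    intro j
    induction j with
    | zero =>
      rw [pow_zero, Submodule.one_le]
      exact SetLike.one_mem_graded 𝒜
    | succ j ih =>
      rw [pow_succ, Submodule.mul_le]
      exact fun x hx y hy => SetLike.mul_mem_graded (ih hx) hy
  have htop : (⊤ : Submodule A B) ≤ ⨆ j, (𝒜 1) ^ j := by
    rw [← Algebra.top_toSubmodule, ← hgen, Algebra.adjoin_eq_span, Submodule.span_le]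
    intro x hx
    obtain ⟨j, hj⟩ : ∃ j, x ∈ (𝒜 1) ^ j := by
      induction hx using Submonoid.closure_induction with
      | mem x hx => exact ⟨1, by rwa [pow_one]⟩
      | one => exact ⟨0, by rw [pow_zero]; exact Submodule.one_le.1 le_rfl⟩
      | mul x y _ _ hx hy =>
        obtain ⟨i, hi⟩ := hx
        obtain ⟨j, hj⟩ := hy
        exact ⟨i + j, by rw [pow_add]; exact Submodule.mul_mem_mul hi hj⟩
    exact Submodule.mem_iSup_of_mem j hj
  intro x hx
  have key : ∀ y : B, y ∈ ⨆ j, (𝒜 1) ^ j → GradedRing.proj 𝒜 n y ∈ (𝒜 1) ^ n := by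
    intro y hy
    induction hy using Submodule.iSup_induction' with
    | mem j y hy =>
      rw [GradedRing.proj_apply, DirectSum.decompose_of_mem 𝒜 (hle j hy)]
      by_cases h : j = n
      · subst h; rwa [DirectSum.of_eq_same]
      · rw [DirectSum.of_eq_of_ne _ _ _ (Ne.symm h)]; exact zero_mem _
    | zero => rw [map_zero]; exact zero_mem _
    | add y z _ _ hy hz => rw [map_add]; exact add_mem hy hz
  have := key x (htop Submodule.mem_top)
  rwa [GradedRing.proj_apply, DirectSum.decompose_of_mem_same 𝒜 hx] at this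

/-- Degree-one tensors detect the points. -/
theorem exists_degOne_val_ne_zero (hgen : Algebra.adjoin A (𝒜 1 : Set B) = ⊤) {k : ℕ} (hk : 0 < k)
    {u : Fin d → B} (hu : ∀ i, u i ∈ 𝒜 k) (hne : val 𝒜 d ev u ≠ 0) :
    ∃ w : Fin d → B, (∀ i, w i ∈ 𝒜 1) ∧ val 𝒜 d ev w ≠ 0 := by
  classical
  by_contra! h1
  -- tensors with slots in `s` being products with a linear form
  suffices ∀ k : ℕ, ∀ b : Fin d → B, (∀ i, b i ∈ 𝒜 (k + 1)) → val 𝒜 d ev b = 0 by
    obtain ⟨k, rfl⟩ := Nat.exists_eq_add_of_le' hk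
    exact hne (this k u hu)
  intro k
  induction k with
  | zero => exact h1
  | succ k ih =>
    have key : ∀ (s : Finset (Fin d)) (b : Fin d → B), (∀ i, b i ∈ 𝒜 (k + 2)) →
        (∀ i ∉ s, ∃ y ∈ 𝒜 (k + 1), ∃ e ∈ 𝒜 1, b i = y * e) → val 𝒜 d ev b = 0 := by
      intro s
      induction s using Finset.induction_on with
      | empty =>
        intro b _ hprod
        choose y hy e he hbe using fun i => hprod i (Finset.notMem_empty i)
        rw [show b = y * e from funext hbe, val_mul 𝒜 d ev hy he, h1 e he, mul_zero]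
      | insert a s has ihs =>
        intro b hb hprod
        have hba : b a ∈ 𝒜 (k + 1) * 𝒜 1 := by
          have h2 := mem_powers_of_graded 𝒜 hgen (k + 2) (hb a)
          rw [pow_succ] at h2
          refine (?_ : (𝒜 1) ^ (k + 1) * 𝒜 1 ≤ 𝒜 (k + 1) * 𝒜 1) h2
          refine Submodule.mul_le.2 fun z hz e he => Submodule.mul_mem_mul ?_ he
          have hle : (𝒜 1) ^ (k + 1) ≤ 𝒜 (k + 1) := by
            generalize k + 1 = j
            induction j with
            | zero =>
              rw [pow_zero, Submodule.one_le]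
              exact SetLike.one_mem_graded 𝒜
            | succ j ih =>
              rw [pow_succ, Submodule.mul_le]
              exact fun x hx y hy => SetLike.mul_mem_graded (ih hx) hy
          exact hle hz
        suffices h : ∀ z ∈ 𝒜 (k + 1) * 𝒜 1, z ∈ 𝒜 (k + 2) ∧ val 𝒜 d ev (Function.update b a z) = 0 by
          simpa using (h _ hba).2
        intro z hz
        induction hz using Submodule.mul_induction_on' with
        | mem_mul_mem y hy e he =>
          have hye : y * e ∈ 𝒜 (k + 2) := SetLike.mul_mem_graded (i := k + 1) (j := 1) hy he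
          refine ⟨hye, ihs _ (fun i => ?_) fun i hi => ?_⟩
          · by_cases h : i = a
            · subst h; simpa using hye
            · simpa [h] using hb i
          · by_cases h : i = a
            · subst h; exact ⟨y, hy, e, he, by simp⟩
            · simpa [h] using hprod i (by simp [h, hi])
        | add x _ y _ hx hy =>
          refine ⟨add_mem hx.1 hy.1, ?_⟩
          rw [val_update_add 𝒜 d ev hb a hx.1 hy.1, hx.2, hy.2, add_zero]
    intro b hb
    exact key Finset.univ b hb fun i hi => absurd (Finset.mem_univ i) hi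

/-- With enough scalars a linear form avoids the point. -/
theorem exists_linear_val_ne_zero
    (hres : ∀ p : PrimeSpectrum A, (d : Cardinal) ≤ Cardinal.mk p.asIdeal.ResidueField)
    {u : Fin d → B} (hu : ∀ i, u i ∈ 𝒜 1) (hne : val 𝒜 d ev u ≠ 0) :
    ∃ f ∈ 𝒜 1, val 𝒜 d ev (fun _ => f) ≠ 0 := by
  classical
  let α : A →+* κ := ev.comp (algebraMap A (diagAlg 𝒜 d))
  let p : PrimeSpectrum A := ⟨RingHom.ker α, RingHom.ker_isPrime α⟩
  haveI : p.asIdeal.IsPrime := p.isPrime
  let ψ : p.asIdeal.ResidueField →+* κ := Ideal.ResidueField.lift p.asIdeal α le_rfl (by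
    intro x hx
    simpa [p, IsUnit.mem_submonoid_iff, Ideal.primeCompl] using hx)
  obtain ⟨T, hT⟩ : ∃ T : Finset p.asIdeal.ResidueField, T.card = d := by
    rcases finite_or_infinite p.asIdeal.ResidueField with hfin | hinf
    · letI := Fintype.ofFinite p.asIdeal.ResidueField
      have h := hres p
      rw [Cardinal.mk_fintype, Nat.cast_le] at h
      obtain ⟨T, -, hT⟩ := Finset.exists_subset_card_eq (s := Finset.univ) (n := d) (by simpa using h)
      exact ⟨T, hT⟩
    · exact Infinite.exists_superset_card_eq ∅ d (Nat.zero_le _) |>.imp fun T h => h.2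
  have hrep : ∀ z : p.asIdeal.ResidueField, ∃ num den : A, α den ≠ 0 ∧ ψ z * α den = α num := by
    intro z
    obtain ⟨x, y, hy, rfl⟩ := IsFractionRing.div_surjective (A := A ⧸ p.asIdeal) z
    obtain ⟨x, rfl⟩ := Ideal.Quotient.mk_surjective x
    obtain ⟨y, rfl⟩ := Ideal.Quotient.mk_surjective y
    have hy0 : α y ≠ 0 := fun h => nonZeroDivisors.ne_zero hy (Ideal.Quotient.eq_zero_iff_mem.2 h)
    refine ⟨x, y, hy0, ?_⟩
    rw [map_div₀, Ideal.algebraMap_quotient_residueField_mk, Ideal.algebraMap_quotient_residueField_mk]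
    simp only [ψ, Ideal.ResidueField.lift_algebraMap]
    exact div_mul_cancel₀ _ hy0
  let ℓ : Fin d → B → κ := fun i x => val 𝒜 d ev (Function.update u i x)
  have hadd : ∀ i x y, x ∈ 𝒜 1 → y ∈ 𝒜 1 → ∀ a b : A, ℓ i (a • x + b • y) = α a * ℓ i x + α b * ℓ i y := by
    intro i x y hx hy a b
    simp only [ℓ]
    rw [val_update_add 𝒜 d ev hu i (Submodule.smul_mem _ a hx) (Submodule.smul_mem _ b hy),
      val_update_smul 𝒜 d ev hu i a hx, val_update_smul 𝒜 d ev hu i b hy]
    rfl
  have key : ∀ s : Finset (Fin d), ∃ f ∈ 𝒜 1, ∀ i ∈ s, ℓ i f ≠ 0 := by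
    intro s
    induction s using Finset.induction_on with
    | empty => exact ⟨0, zero_mem _, by simp⟩
    | insert a s has ih =>
      obtain ⟨f, hf, hgood⟩ := ih
      have hga : ℓ a (u a) ≠ 0 := by simpa [ℓ] using hne
      choose num den hden hfrac using hrep
      let pt : Option T → B := fun o => o.elim (u a) fun z => den z.1 • f + num z.1 • u a
      have hpt : ∀ o, pt o ∈ 𝒜 1 := by
        rintro (_ | z)
        · exact hu a
        · exact add_mem (Submodule.smul_mem _ _ hf) (Submodule.smul_mem _ _ (hu a))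
      by_contra! hbad
      choose bad hbs hb0 using fun o => hbad (pt o) (hpt o)
      have hsep : ∀ i ∈ insert a s, ℓ i f ≠ 0 ∨ ℓ i (u a) ≠ 0 := fun i hi => by
        rcases Finset.mem_insert.1 hi with rfl | hi
        · exact Or.inr hga
        · exact Or.inl (hgood i hi)
      have hinj : Function.Injective bad := by
        have hval : ∀ z : T, ℓ (bad (some z)) f + ψ z.1 * ℓ (bad (some z)) (u a) = 0 := fun z => by
          have h := hb0 (some z)
          simp only [pt, Option.elim] at h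
          rw [hadd _ _ _ hf (hu a)] at h
          refine (mul_eq_zero.1 ?_).resolve_right (hden z.1)
          linear_combination h + ℓ (bad (some z)) (u a) * hfrac z.1
        rintro (_ | z) (_ | z') h
        · rfl
        · exfalso
          have h0 := hb0 none
          rw [h] at h0
          have h1 := hval z'
          simp only [pt, Option.elim] at h0
          rw [h0, mul_zero, add_zero] at h1
          exact (hsep _ (hbs _)).elim (· h1) (· h0)
        · exfalso
          have h0 := hb0 none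
          rw [← h] at h0
          have h1 := hval z
          simp only [pt, Option.elim] at h0
          rw [h0, mul_zero, add_zero] at h1
          exact (hsep _ (hbs _)).elim (· h1) (· h0)
        · have h1 := hval z
          have h2 := hval z'
          rw [← h] at h2
          have h3 : (ψ z.1 - ψ z'.1) * ℓ (bad (some z)) (u a) = 0 := by linear_combination h1 - h2
          rcases mul_eq_zero.1 h3 with h4 | h4
          · exact congrArg some (Subtype.ext (ψ.injective (sub_eq_zero.1 h4)))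
          · rw [h4, mul_zero, add_zero] at h1
            exact absurd h4 ((hsep _ (hbs _)).elim (fun e => absurd h1 e) id)
      have h1 := Finset.card_le_card_of_injOn (s := (Finset.univ : Finset (Option T))) bad
        (fun o _ => hbs o) hinj.injOn
      have h2 := (Finset.card_le_univ (insert a s))
      simp [hT] at h1 h2
      omega
  obtain ⟨f, hf, hgood⟩ := key Finset.univ
  refine ⟨f, hf, ?_⟩
  have := Finset.prod_ne_zero_iff.2 fun i (_ : i ∈ Finset.univ) => hgood i (Finset.mem_univ i)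
  rw [show ∏ i, ℓ i f = _ from val_const 𝒜 d ev hu hf rfl] at this
  exact left_ne_zero_of_mul this

end Groth.ZeroCycSym
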