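import Mathlib
import Groth.Agent.Misc8.SymOrbit

/-! Tensor powers of flat algebras with geometrically reduced fibres. -/

set_option autoImplicit false
universe u

open scoped TensorProduct
open Groth.Misc8 Groth.Misc8.FlatTensor

namespace Groth.ZeroCycSym.GeomReduced

variable {A : Type u} [CommRing A]

theorem flat_T (M : Type u) [AddCommGroup M] [Module A M] [Module.Flat A M] :
    ∀ n, Module.Flat A (T A n M) := by
  intro n
  induction n with
  | zero => exact Module.Flat.of_linearEquiv (PiTensorProduct.isEmptyEquiv (R := A) (s := fun _ : Fin 0 => M) (Fin 0))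
  | succ n ih =>
    haveI := ih
    exact Module.Flat.of_retract (split n M) (join n M) (LinearMap.ext (join_split n))

/-- Symmetric tensors of a flat module form a pure submodule. -/
theorem injective_lTensor_sym (M : Type u) [AddCommGroup M] [Module A M] [Module.Flat A M] (n : ℕ)
    (N : Type u) [AddCommGroup N] [Module A N] :
    Function.Injective ((SymOrbit.Sym A M n).subtype.lTensor N) := by
  classical
  rw [injective_iff_map_eq_zero]
  intro x hx
  obtain ⟨S, rfl⟩ := TensorProduct.exists_finset x
  obtain ⟨m, k, t, hS⟩ : ∃ (m : ℕ) (k : Fin m → N) (t : Fin m → SymOrbit.Sym A M n),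
      ∑ i ∈ S, i.1 ⊗ₜ[A] i.2 = ∑ i, k i ⊗ₜ[A] t i :=
    ⟨S.card, fun i => (S.equivFin.symm i).1.1, fun i => (S.equivFin.symm i).1.2, by
      rw [← Finset.sum_coe_sort]
      exact (S.equivFin.symm.sum_comp fun i => i.1.1 ⊗ₜ[A] i.1.2).symm⟩
  rw [hS] at hx ⊢
  simp only [map_sum, LinearMap.lTensor_tmul, Submodule.coe_subtype] at hx
  haveI := flat_T (A := A) M n
  obtain ⟨q, a, y, ha, hy⟩ := TensorProduct.vanishesTrivially_of_sum_tmul_eq_zero_of_rTensor_injective A
    (Module.Flat.rTensor_preserves_injective_linearMap _ Subtype.val_injective) hx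
  obtain ⟨l, g, w, hw⟩ := exists_lift n (Sum.elim (fun i => (t i : T A n M)) y)
  let z : (Fin m) ⊕ (Fin m × Equiv.Perm (Fin n)) → T A n (Fin l → A) := Sum.elim
    (fun i => w (Sum.inl i) - ∑ j, a i j • w (Sum.inr j))
    (fun p => PiTensorProduct.reindex A (fun _ : Fin n => Fin l → A) p.2 (w (Sum.inl p.1)) - w (Sum.inl p.1))
  obtain ⟨l', b, g', rfl, hb⟩ := exists_factor n g Finset.univ z (by
    rintro (i | ⟨i, σ⟩) -
    · simp [z, hw, ← ha i]
    · simp [z, SymOrbit.Tmap_reindex, hw, SymOrbit.mem_Sym.1 (t i).2 σ])
  let e : Fin l' → (Fin l' → A) := fun c => Pi.basisFun A (Fin l') c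
  let proj : T A n (Fin l' → A) →ₗ[A] SymOrbit.Sym A M n :=
    ∑ v ∈ SymOrbit.cls n l', (SymOrbit.coord A n l' v).smulRight
      ⟨Tmap n g' (SymOrbit.esum A e v), SymOrbit.mem_Sym.2 (SymOrbit.isSym_map g' (SymOrbit.esum_isSym e v))⟩
  have hproj : ∀ s : T A n (Fin l' → A), SymOrbit.IsSym s → (proj s : T A n M) = Tmap n g' s := by
    intro s hs
    conv_rhs => rw [SymOrbit.eq_sum_esum s hs]
    simp [proj, map_sum, e]
  have ht : ∀ i, t i = ∑ j, a i j • proj (Tmap n b (w (Sum.inr j))) := by
    intro i
    have hs : SymOrbit.IsSym (Tmap n b (w (Sum.inl i))) := fun σ => by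
      have := hb (Sum.inr (i, σ)) (Finset.mem_univ _)
      simpa [z, SymOrbit.Tmap_reindex, sub_eq_zero] using this
    have he : Tmap n b (w (Sum.inl i)) = ∑ j, a i j • Tmap n b (w (Sum.inr j)) := by
      have := hb (Sum.inl i) (Finset.mem_univ _)
      simpa [z, sub_eq_zero] using this
    rw [show ∑ j, a i j • proj (Tmap n b (w (Sum.inr j))) = proj (Tmap n b (w (Sum.inl i))) by
      rw [he, map_sum]; simp only [map_smul]]
    apply Subtype.ext
    rw [hproj _ hs, ← Tmap_comp, hw]
    rfl
  simp only [ht, TensorProduct.tmul_sum, ← TensorProduct.smul_tmul]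
  rw [Finset.sum_comm]
  refine Finset.sum_eq_zero fun j _ => ?_
  rw [← TensorProduct.sum_tmul, hy j, TensorProduct.zero_tmul]

variable {B : Type u} [CommRing B] [Algebra A B]

/-- Tensoring a reduced algebra over a field with a geometrically reduced algebra keeps it reduced. -/
theorem isReduced_tensor (hred : ∀ (K : Type u) [Field K] [Algebra A K], IsReduced (K ⊗[A] B))
    (K : Type u) [Field K] [Algebra A K] (R : Type u) [CommRing R] [Algebra A R] [Algebra K R]
    [IsScalarTower A K R] [IsReduced R] : IsReduced (R ⊗[A] B) := by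
  classical
  let V := K ⊗[A] B
  let bas := Module.Free.chooseBasis K V
  let e := Algebra.TensorProduct.cancelBaseChange A K R R B
  suffices IsReduced (R ⊗[K] V) from isReduced_of_injective e.symm e.symm.injective
  refine ⟨fun x hx => ?_⟩
  have hcoord : ∀ i, (bas.baseChange R).repr x i ∈ nilradical R := by
    intro i
    rw [nilradical_eq_sInf, Submodule.mem_sInf]
    intro p hp
    haveI : Ideal.IsPrime p := hp
    let F := FractionRing (R ⧸ (p : Ideal R))
    haveI : IsReduced (F ⊗[A] B) := hred F
    haveI : IsReduced (F ⊗[K] V) :=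
      isReduced_of_injective (Algebra.TensorProduct.cancelBaseChange A K F F B)
        (Algebra.TensorProduct.cancelBaseChange A K F F B).injective
    let ρ : R →ₐ[K] F := (IsScalarTower.toAlgHom K (R ⧸ p) F).comp (Ideal.Quotient.mkₐ K p)
    have hnat : ∀ y : R ⊗[K] V, (bas.baseChange F).repr (Algebra.TensorProduct.map ρ (AlgHom.id K V) y) i =
        ρ ((bas.baseChange R).repr y i) := by
      intro y
      induction y using TensorProduct.induction_on with
      | zero => simp
      | tmul r v => simp [Algebra.smul_def]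
      | add a b ha hb => simp only [map_add, Finsupp.add_apply, ha, hb]
    have h0 : Algebra.TensorProduct.map ρ (AlgHom.id K V) x = 0 := (hx.map _).eq_zero
    have h1 := hnat x
    rw [h0, map_zero, Finsupp.zero_apply] at h1
    exact Ideal.Quotient.eq_zero_iff_mem.1 ((map_eq_zero_iff _ (IsFractionRing.injective (R ⧸ p) F)).1 h1.symm)
  apply (bas.baseChange R).repr.injective
  ext i
  rw [map_zero, Finsupp.zero_apply]
  exact (mem_nilradical.1 (hcoord i)).eq_zero

/-- Splitting off a tensor factor, as a map of algebras. -/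
noncomputable def splitAlg (n : ℕ) : (⨂[A] _ : Fin (n + 1), B) →ₐ[A] B ⊗[A] (⨂[A] _ : Fin n, B) :=
  AlgHom.ofLinearMap (split n B)
    (by
      show split n B (PiTensorProduct.tprod A (1 : Fin (n + 1) → B)) = 1
      rw [split_tprod]; rfl)
    (by
      intro x y
      induction x using PiTensorProduct.induction_on with
      | add a b ha hb => simp only [add_mul, map_add, ha, hb]
      | smul_tprod c f =>
        induction y using PiTensorProduct.induction_on with
        | add a b ha hb => simp only [mul_add, map_add, ha, hb]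
        | smul_tprod c' g =>
          simp only [smul_mul_smul_comm, map_smul, PiTensorProduct.tprod_mul_tprod, split_tprod]
          rw [Algebra.TensorProduct.tmul_mul_tmul, PiTensorProduct.tprod_mul_tprod]
          rfl)

theorem isReduced_tensorPower (hred : ∀ (K : Type u) [Field K] [Algebra A K], IsReduced (K ⊗[A] B))
    (K : Type u) [Field K] [Algebra A K] : ∀ n, IsReduced (K ⊗[A] (⨂[A] _ : Fin n, B)) := by
  intro n
  induction n with
  | zero =>
    let e : (⨂[A] _ : Fin 0, B) ≃ₐ[A] A :=
      AlgEquiv.ofLinearEquiv (PiTensorProduct.isEmptyEquiv (R := A) (s := fun _ : Fin 0 => B) (Fin 0))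
        (by rw [PiTensorProduct.one_def]; simp)
        (by
          intro x y
          induction x using PiTensorProduct.induction_on with
          | add a b ha hb => simp only [add_mul, map_add, ha, hb]
          | smul_tprod c f =>
            induction y using PiTensorProduct.induction_on with
            | add a b ha hb => simp only [mul_add, map_add, ha, hb]
            | smul_tprod c' g => simp [PiTensorProduct.tprod_mul_tprod, mul_comm])
    let E : K ⊗[A] (⨂[A] _ : Fin 0, B) ≃ₐ[A] K :=
      (Algebra.TensorProduct.congr AlgEquiv.refl e).trans ((Algebra.TensorProduct.rid A A K))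
    exact isReduced_of_injective E E.injective
  | succ n ih =>
    haveI := ih
    haveI : IsReduced ((K ⊗[A] (⨂[A] _ : Fin n, B)) ⊗[A] B) :=
      isReduced_tensor hred K (K ⊗[A] (⨂[A] _ : Fin n, B))
    let E : K ⊗[A] (B ⊗[A] (⨂[A] _ : Fin n, B)) ≃ₐ[A] (K ⊗[A] (⨂[A] _ : Fin n, B)) ⊗[A] B :=
      (Algebra.TensorProduct.congr AlgEquiv.refl (Algebra.TensorProduct.comm A B _)).trans
        (Algebra.TensorProduct.assoc A A A K (⨂[A] _ : Fin n, B) B).symm
    let φ := E.toAlgHom.comp (Algebra.TensorProduct.map (AlgHom.id A K) (splitAlg (A := A) (B := B) n))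
    refine isReduced_of_injective φ.toRingHom (E.injective.comp ?_)
    have hj : (join (R := A) n B) ∘ₗ (split (R := A) n B) = LinearMap.id := LinearMap.ext (join_split n)
    have hl : (LinearMap.lTensor K (join (R := A) n B)) ∘ₗ (LinearMap.lTensor K (split (R := A) n B)) = LinearMap.id := by
      rw [← LinearMap.lTensor_comp, hj, LinearMap.lTensor_id]
    exact Function.LeftInverse.injective (g := LinearMap.lTensor K (join (R := A) n B)) fun x => LinearMap.congr_fun hl x

end Groth.ZeroCycSym.GeomReduced
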